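import Cfsg.Agent.Lib.PGroup.SymplecticType
import Cfsg.Agent.Lib.PGroup.UniqueInvolutionAut
import Cfsg.Agent.Lib.PGroup.UniqueOrderP
import Cfsg.Agent.Lib.Coprime.Action

/-!
A noncyclic abelian group of odd order automorphisms of a 2-group, each nonidentity one fixing at most
one involution: the 2-group is extraspecial of order `2^5`, `2^7` or `2^9` and the group has order 9.
-/

set_option autoImplicit false
set_option linter.unusedSectionVars false
set_option linter.unusedVariables false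

namespace Cfsg.Agent.TwoFixOne

open Subgroup
open scoped commutatorElement

variable {W : Type*} [Group W] [Finite W]

/-- Fixed points of an automorphism. -/
def fx (e : MulAut W) : Subgroup W where
  carrier := {x | e x = x}
  one_mem' := map_one e
  mul_mem' := fun {a b} (ha : e a = a) (hb : e b = b) => by show e (a * b) = a * b; rw [map_mul, ha, hb]
  inv_mem' := fun {a} (ha : e a = a) => by show e a⁻¹ = a⁻¹; rw [map_inv, ha]

theorem mem_fx {e : MulAut W} {x : W} : x ∈ fx e ↔ e x = x := Iff.rfl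

/-- Restriction to an invariant subgroup. -/
def restr (E : Subgroup (MulAut W)) (U : Subgroup W) (hU : ∀ e ∈ E, ∀ x ∈ U, e x ∈ U) :
    ↥E →* MulAut ↥U where
  toFun e :=
    { toFun := fun x => ⟨(e : MulAut W) x, hU e e.2 x x.2⟩
      invFun := fun x => ⟨((e : MulAut W)⁻¹) x, hU _ (inv_mem e.2) x x.2⟩
      left_inv := fun x => Subtype.ext (MulEquiv.symm_apply_apply _ _)
      right_inv := fun x => Subtype.ext (MulEquiv.apply_symm_apply _ _)
      map_mul' := fun x y => Subtype.ext (map_mul _ _ _) }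
  map_one' := rfl
  map_mul' _ _ := rfl

theorem restr_apply {E : Subgroup (MulAut W)} {U : Subgroup W} (hU : ∀ e ∈ E, ∀ x ∈ U, e x ∈ U)
    (e : ↥E) (x : ↥U) : ((restr E U hU e x : ↥U) : W) = (e : MulAut W) x := rfl

/-- The standing hypothesis. -/
structure Hyp (p : ℕ) (E : Subgroup (MulAut W)) : Prop where
  hW : IsPGroup 2 W
  hp : p ≠ 2
  hE : IsPGroup p ↥E
  hab : IsMulCommutative ↥E
  hnc : ¬ IsCyclic ↥E
  hfix : ∀ e ∈ E, e ≠ 1 → ∀ x y : W, orderOf x = 2 → orderOf y = 2 → e x = x → e y = y → x = y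

variable {p : ℕ} [Fact p.Prime] {E : Subgroup (MulAut W)}

theorem Hyp.odd (h : Hyp p E) {e : MulAut W} (he : e ∈ E) : Odd (orderOf e) := by
  obtain ⟨k, hk⟩ := IsPGroup.iff_orderOf.1 h.hE ⟨e, he⟩
  rw [Subgroup.orderOf_mk] at hk
  rw [hk]
  exact ((Fact.out : p.Prime).odd_of_ne_two h.hp).pow

theorem Hyp.exists_ne (h : Hyp p E) : ∃ e ∈ E, e ≠ 1 := by
  by_contra hne
  push Not at hne
  refine h.hnc ?_
  have : Subsingleton ↥E := ⟨fun a b => Subtype.ext ((hne a a.2).trans (hne b b.2).symm)⟩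
  infer_instance

theorem Hyp.comm (h : Hyp p E) {e f : MulAut W} (he : e ∈ E) (hf : f ∈ E) (x : W) :
    e (f x) = f (e x) := by
  have := congrArg (fun z : ↥E => (z : MulAut W) x) (h.hab.is_comm.comm ⟨e, he⟩ ⟨f, hf⟩)
  exact this

/-- Generation by fixed points. -/
theorem Hyp.gen (h : Hyp p E) {U S : Subgroup W} (hU : ∀ e ∈ E, ∀ x ∈ U, e x ∈ U)
    (hS : ∀ e ∈ E, e ≠ 1 → ∀ x ∈ U, e x = x → x ∈ S) : U ≤ S := by
  let inst : CommGroup ↥E := { (inferInstance : Group ↥E) with mul_comm := h.hab.is_comm.comm }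
  have hcop : (Nat.card ↥E).Coprime (Nat.card ↥U) := by
    obtain ⟨i, hi⟩ := h.hE.exists_card_eq
    have : Fact (Nat.Prime 2) := ⟨Nat.prime_two⟩
    obtain ⟨j, hj⟩ := (h.hW.to_subgroup U).exists_card_eq
    rw [hi, hj]
    exact ((Nat.coprime_primes Fact.out Nat.prime_two).2 h.hp).pow i j
  have := Coprime.eq_top_of_forall_fixedBy_le (restr E U hU) h.hnc hcop (S := S.subgroupOf U)
    fun a ha k hk => hS a a.2 (fun e => ha (Subtype.ext e)) k k.2 (congrArg Subtype.val hk)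
  exact subgroupOf_eq_top.1 this

/-- An involution fixed by some nonidentity element is fixed by all. -/
theorem Hyp.fixed_of_inv (h : Hyp p E) {e f : MulAut W} (he : e ∈ E) (he1 : e ≠ 1) (hf : f ∈ E)
    {x : W} (hx : orderOf x = 2) (hex : e x = x) : f x = x :=
  h.hfix e he he1 _ _ (by rw [MulEquiv.orderOf_eq]; exact hx) hx (by rw [h.comm he hf, hex]) hex

/-- Invariant abelian subgroups are fixed pointwise. -/
theorem Hyp.abelian_fixed (h : Hyp p E) {U : Subgroup W} (hU : ∀ e ∈ E, ∀ x ∈ U, e x ∈ U)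
    (hab : IsMulCommutative ↥U) : ∀ e ∈ E, ∀ x ∈ U, e x = x := by
  have : Fact (Nat.Prime 2) := ⟨Nat.prime_two⟩
  let O : Subgroup W :=
    { carrier := {x | x ∈ U ∧ x ^ 2 = 1}
      one_mem' := ⟨one_mem U, one_pow 2⟩
      mul_mem' := fun {a b} ha hb => ⟨mul_mem ha.1 hb.1, by
        have hc : Commute a b := congrArg Subtype.val (hab.is_comm.comm (⟨a, ha.1⟩ : ↥U) ⟨b, hb.1⟩)
        rw [hc.mul_pow, ha.2, hb.2, one_mul]⟩
      inv_mem' := fun {a} ha => ⟨inv_mem ha.1, by rw [inv_pow, ha.2, inv_one]⟩ }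
  have hO : ∀ x ∈ O, ∀ e ∈ E, e x = x := by
    have hOi : ∀ e ∈ E, ∀ x ∈ O, e x ∈ O := fun e he x hx =>
      ⟨hU e he x hx.1, by rw [← map_pow, hx.2, map_one]⟩
    intro x hx e he
    have := h.gen hOi (S := Coprime.fixedBy E.subtype) fun f hf hf1 y hy hfy g => by
      rcases eq_or_ne y 1 with rfl | hy1
      · exact map_one _
      · exact h.fixed_of_inv hf hf1 g.2 (orderOf_eq_prime hy.2 hy1) hfy
    exact this hx ⟨e, he⟩
  obtain ⟨e₀, he₀, he₁⟩ := h.exists_ne
  have hcyc : IsCyclic ↥U := by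
    refine PGroup.isCyclic_of_unique_of_isMulCommutative (h.hW.to_subgroup U) (fun H K hH hK => ?_) hab
    obtain ⟨x, hx⟩ := exists_prime_orderOf_dvd_card' (G := ↥H) 2 (dvd_of_eq hH.symm)
    obtain ⟨y, hy⟩ := exists_prime_orderOf_dvd_card' (G := ↥K) 2 (dvd_of_eq hK.symm)
    rw [← Subgroup.orderOf_coe] at hx hy
    have hH' : H = zpowers (x : ↥U) :=
      (eq_of_le_of_card_ge (zpowers_le.2 x.2) (by rw [Nat.card_zpowers, hx, hH])).symm
    have hK' : K = zpowers (y : ↥U) :=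
      (eq_of_le_of_card_ge (zpowers_le.2 y.2) (by rw [Nat.card_zpowers, hy, hK])).symm
    have hxW : orderOf ((x : ↥U) : W) = 2 := by rw [Subgroup.orderOf_coe]; exact hx
    have hyW : orderOf ((y : ↥U) : W) = 2 := by rw [Subgroup.orderOf_coe]; exact hy
    have hmem : ∀ z : ↥U, orderOf (z : W) = 2 → (z : W) ∈ O := fun z hz =>
      ⟨z.2, by rw [← hz, pow_orderOf_eq_one]⟩
    have := h.hfix e₀ he₀ he₁ _ _ hxW hyW (hO _ (hmem _ hxW) _ he₀) (hO _ (hmem _ hyW) _ he₀)
    rw [hH', hK', Subtype.ext this]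
  intro e he x hx
  suffices hr : restr E U hU ⟨e, he⟩ = 1 by
    have := congrArg (fun φ : MulAut ↥U => ((φ ⟨x, hx⟩ : ↥U) : W)) hr
    exact this
  refine orderOf_eq_one_iff.1 (Nat.eq_one_of_dvd_coprimes (a := orderOf e) (b := Nat.card (MulAut ↥U))
    ?_ ?_ (orderOf_dvd_natCard _))
  · obtain ⟨k, hk⟩ := (h.hW.to_subgroup U).exists_card_eq
    rw [IsCyclic.card_mulAut, hk]
    rcases k with _ | k
    · simp
    · rw [Nat.totient_prime_pow_succ Nat.prime_two, show 2 - 1 = 1 from rfl, mul_one]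
      exact (Nat.Coprime.pow_right _ ((Nat.coprime_two_right).2 (h.odd he)))
  · exact (orderOf_map_dvd _ _).trans (by rw [Subgroup.orderOf_mk])

/-- An automorphism of order dividing three fixing a subgroup of index two of a 2-group is trivial. -/
theorem fix_of_index_two (hW : IsPGroup 2 W) {U H : Subgroup W} (hHU : H ≤ U)
    (hidx : H.relIndex U = 2) {f : MulAut W} (hfU : ∀ x ∈ U, f x ∈ U) (hf3 : ∀ x ∈ U, f (f (f x)) = x)
    (hfix : ∀ x ∈ H, f x = x) : ∀ x ∈ U, f x = x := by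
  intro x hx
  by_cases hxH : x ∈ H
  · exact hfix x hxH
  have hfx : f x ∉ H := fun hc => hxH (by
    have h1 := hf3 x hx
    rw [hfix _ hc, hfix _ hc] at h1
    exact h1 ▸ hc)
  have hmem : x⁻¹ * f x ∈ H := by
    have h2 := Subgroup.mul_mem_iff_of_index_two (H := H.subgroupOf U) hidx
      (a := (⟨x, hx⟩⁻¹ : ↥U)) (b := ⟨f x, hfU x hx⟩)
    simp only [mem_subgroupOf, Subgroup.coe_mul, InvMemClass.coe_inv, inv_mem_iff] at h2
    exact h2.2 ⟨fun a => absurd a hxH, fun a => absurd a hfx⟩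
  set c := x⁻¹ * f x with hc
  have h1 : f x = x * c := by rw [hc]; group
  clear_value c
  have h3 : x * c * c * c = x := by
    have := hf3 x hx
    rwa [h1, map_mul, hfix c hmem, h1, map_mul, map_mul, hfix c hmem, h1] at this
  have hc3 : c ^ 3 = 1 := by
    rw [pow_succ, pow_two]
    exact mul_left_cancel (a := x) (by rw [mul_one, ← mul_assoc, ← mul_assoc]; exact h3)
  obtain ⟨k, hk⟩ := hW c
  have hco : orderOf c = 1 := Nat.eq_one_of_dvd_coprimes (Nat.Coprime.pow_left k (by norm_num : Nat.Coprime 2 3))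
    (orderOf_dvd_of_pow_eq_one hk) (orderOf_dvd_of_pow_eq_one hc3)
  rw [h1, orderOf_eq_one_iff.1 hco, mul_one]

/-- The fixed points of `e ≠ 1` in an invariant subgroup are fixed by `E`, or form a group of
order eight on which the cubes of `E` act trivially. -/
theorem Hyp.dich (h : Hyp p E) {e : MulAut W} (he : e ∈ E) (he1 : e ≠ 1) {U : Subgroup W}
    (hU : ∀ f ∈ E, ∀ x ∈ U, f x ∈ U) (hUe : U ≤ fx e) :
    (∀ f ∈ E, ∀ x ∈ U, f x = x) ∨ (Nat.card ↥U = 8 ∧ ∀ f ∈ E, ∀ x ∈ U, f (f (f x)) = x) := by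
  have hu : ∀ x y : ↥U, orderOf x = 2 → orderOf y = 2 → x = y := fun x y hx hy => Subtype.ext
    (h.hfix e he he1 _ _ (by rw [Subgroup.orderOf_coe]; exact hx) (by rw [Subgroup.orderOf_coe]; exact hy)
      (hUe x.2) (hUe y.2))
  have key : ∀ f (hf : f ∈ E), (restr E U hU ⟨f, hf⟩) ^ 3 = 1 ∧
      (Nat.card ↥U ≠ 8 → restr E U hU ⟨f, hf⟩ = 1) := fun f hf => by
    refine PGroup.mulAut_odd_of_unique_involution (h.hW.to_subgroup U) hu _ (m := orderOf f) (h.odd hf) ?_
    rw [← map_pow, show (⟨f, hf⟩ : ↥E) ^ orderOf f = 1 from Subtype.ext (pow_orderOf_eq_one f), map_one]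
  by_cases h8 : Nat.card ↥U = 8
  · refine Or.inr ⟨h8, fun f hf x hx => ?_⟩
    have := congrArg (fun φ : MulAut ↥U => ((φ ⟨x, hx⟩ : ↥U) : W)) (key f hf).1
    rw [pow_succ, pow_two] at this
    exact this
  · refine Or.inl fun f hf x hx => ?_
    exact congrArg (fun φ : MulAut ↥U => ((φ ⟨x, hx⟩ : ↥U) : W)) ((key f hf).2 h8)

theorem Hyp.fx_invariant (h : Hyp p E) {e : MulAut W} (he : e ∈ E) :
    ∀ f ∈ E, ∀ x ∈ fx e, f x ∈ fx e := fun f hf x hx => by
  show e (f x) = f x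
  rw [h.comm he hf, mem_fx.1 hx]

/-- `W` is extraspecial and its centre is the group of common fixed points. -/
theorem Hyp.extraspecial (h : Hyp p E) :
    Cfsg.IsExtraspecial 2 W ∧ Coprime.fixedBy E.subtype = Subgroup.center W := by
  have : Fact (Nat.Prime 2) := ⟨Nat.prime_two⟩
  obtain ⟨C, hCchar, hCfr, hCW, hCC⟩ := PGroup.exists_critical h.hW
  set Z := C ⊓ centralizer (C : Set W) with hZ
  set F := C ⊓ Coprime.fixedBy E.subtype with hF
  have hchar : ∀ {V : Subgroup W}, V.Characteristic → ∀ f : MulAut W, ∀ x ∈ V, f x ∈ V :=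
    fun hV f x hx => Subgroup.characteristic_iff_map_le.mp hV f (mem_map_of_mem _ hx)
  have hCi : ∀ f ∈ E, ∀ x ∈ C, f x ∈ C := fun f _ => hchar hCchar f
  have hZchar : Z.Characteristic := PGroup.inf_centralizer_characteristic C
  have hZfix := h.abelian_fixed (fun f _ => hchar hZchar f)
    (PGroup.isMulCommutative_of_forall fun a ha b hb => (ha.2 b hb.1).symm)
  have hZF : Z ≤ F := fun z hz => ⟨hz.1, fun a => hZfix a a.2 z hz⟩
  have hfaith : ∀ f ∈ E, (∀ x ∈ C, f x = x) → f = 1 := fun f hf hx =>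
    PGroup.aut_eq_one_of_centralizer_le h.hW C hCC f (Nat.coprime_two_right.2 (h.odd hf)) hx
  obtain ⟨e, he, he1, hbig⟩ : ∃ e ∈ E, e ≠ 1 ∧ ¬ C ⊓ fx e ≤ F := by
    by_contra hne
    push Not at hne
    have hle : C ≤ F := h.gen hCi fun f hf hf1 x hx hfx => hne f hf hf1 ⟨hx, hfx⟩
    obtain ⟨e₀, he₀, he₁⟩ := h.exists_ne
    exact he₁ (hfaith e₀ he₀ fun x hx => (hle hx).2 ⟨e₀, he₀⟩)
  set U := C ⊓ fx e with hU
  have hUi : ∀ f ∈ E, ∀ x ∈ U, f x ∈ U := fun f hf x hx => ⟨hCi f hf x hx.1, h.fx_invariant he f hf x hx.2⟩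
  have hFU : F ≤ U := fun x hx => ⟨hx.1, hx.2 ⟨e, he⟩⟩
  obtain ⟨hU8, hU3⟩ := (h.dich he he1 hUi inf_le_right).resolve_left fun hf =>
    hbig fun x hx => ⟨hx.1, fun a => hf a a.2 x hx⟩
  have hFU8 : ¬ 4 ≤ Nat.card ↥F := by
    intro h4
    refine hbig fun x hx => ⟨hx.1, fun a => ?_⟩
    have hne : F ≠ U := fun e' => hbig e'.ge
    have hidx : F.relIndex U = 2 := by
      have hmul : Nat.card ↥F * F.relIndex U = 8 := by
        rw [← hU8, ← relIndex_bot_left F, relIndex_mul_relIndex _ _ _ bot_le hFU, relIndex_bot_left]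
      have h1 : F.relIndex U ≠ 1 := fun e' => hne (le_antisymm hFU (relIndex_eq_one.1 e'))
      have h2 : F.relIndex U ∣ 8 := ⟨Nat.card ↥F, by rw [← hmul, mul_comm]⟩
      have h3 : F.relIndex U ≤ 2 := by
        by_contra hc
        nlinarith
      have := Nat.pos_of_dvd_of_pos h2 (by norm_num)
      omega
    exact fix_of_index_two h.hW hFU hidx (hUi a a.2) (hU3 a a.2) (fun y hy => hy.2 a) x hx
  have hCnt : Nontrivial ↥C := by
    rw [nontrivial_iff_ne_bot]
    intro hC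
    exact hbig fun x hx => by
      have : x = 1 := by simpa [hC] using hx.1
      rw [this]; exact one_mem F
  have hZne : Z ≠ ⊥ := fun hb => by
    have := (h.hW.to_subgroup C).center_nontrivial
    obtain ⟨z, hz⟩ := _root_.exists_ne (1 : ↥(Subgroup.center ↥C))
    refine hz (Subtype.ext (Subtype.ext ?_))
    have hzZ : ((z : ↥C) : W) ∈ Z := ⟨(z : ↥C).2, fun a ha =>
      congrArg Subtype.val (Subgroup.mem_center_iff.mp z.2 ⟨a, ha⟩)⟩
    rw [hb, mem_bot] at hzZ
    exact hzZ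
  have hcardF : Nat.card ↥F = 2 ∧ Z = F := by
    obtain ⟨i, hi⟩ := (h.hW.to_subgroup F).exists_card_eq
    obtain ⟨j, hj⟩ := (h.hW.to_subgroup Z).exists_card_eq
    have hle := Subgroup.card_le_of_le hZF
    have hj1 : 1 < Nat.card ↥Z := Subgroup.one_lt_card_iff_ne_bot _ |>.2 hZne
    have hi1 : i = 1 := by
      rw [hi] at hFU8 hle
      rcases i with _ | _ | i
      · omega
      · rfl
      · exfalso; apply hFU8
        calc 4 = 2 ^ 2 := by norm_num
          _ ≤ 2 ^ (i + 1 + 1) := Nat.pow_le_pow_right (by norm_num) (by omega)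
    subst hi1
    rw [pow_one] at hi
    exact ⟨hi, Subgroup.eq_of_le_of_card_ge hZF (by omega)⟩
  have hZn : Z.Normal := inferInstance
  have hZc : Z ≤ Subgroup.center W := by
    intro z hz
    rw [Subgroup.mem_center_iff]
    intro g
    rcases eq_or_ne z 1 with rfl | hz1
    · simp
    have h1 := hZn.conj_mem z hz g
    have h2 : g * z * g⁻¹ = z := by
      by_contra hne'
      have hsub : ({1, z, g * z * g⁻¹} : Set W) ⊆ (Z : Set W) := by
        rintro w (rfl | rfl | rfl)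
        · exact one_mem Z
        · exact hz
        · exact h1
      have hn : ({1, z, g * z * g⁻¹} : Set W).ncard = 3 := by
        rw [Set.ncard_eq_three]
        exact ⟨1, z, _, Ne.symm hz1, fun h0 => hz1 (conj_eq_one_iff.1 h0.symm), Ne.symm hne', rfl⟩
      have := Set.ncard_le_ncard hsub (Set.toFinite _)
      rw [hn, ← Nat.card_coe_set_eq, SetLike.coe_sort_coe, hcardF.2, hcardF.1] at this
      omega
    exact mul_inv_eq_iff_eq_mul.1 h2
  have hnle : ¬ C ≤ Z := fun hle => hbig fun x hx => hcardF.2 ▸ hle hx.1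
  have hex : Cfsg.IsExtraspecial 2 ↥C := by
    refine PGroup.isExtraspecial_subgroup_of h.hW C Z inf_le_left (hcardF.2 ▸ hcardF.1) hZc le_rfl hnle
      (fun a ha b _ => hCW (commutator_mem_commutator ha (mem_top b))) fun a ha => ?_
    refine ⟨pow_mem ha 2, hCfr ⟨(⟨a, ha⟩ : ↥C) ^ 2, PGroup.pow_mem_frattini (h.hW.to_subgroup C) _, rfl⟩⟩
  have htop : C = ⊤ := by
    have := PGroup.sup_centralizer_eq_top C hex hZc (by rw [commutator_comm]; exact hCW)
    rwa [sup_eq_left.2 hCC] at this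
  have hcen : Z = Subgroup.center W := by
    rw [hZ, htop, top_inf_eq, Subgroup.coe_top, Subgroup.centralizer_univ]
  refine ⟨?_, ?_⟩
  · refine PGroup.isExtraspecial_of h.hW (hcen ▸ hcardF.2 ▸ hcardF.1) (fun e' => hnle ?_) ?_ ?_
    · rw [hcen, e']; exact le_top
    · intro a b
      rw [← hcen]
      exact hCW (commutator_mem_commutator (htop ▸ mem_top a) (mem_top b))
    · intro a
      rw [← hcen]
      have ha : a ∈ C := htop ▸ mem_top a
      exact ⟨pow_mem ha 2, hCfr ⟨(⟨a, ha⟩ : ↥C) ^ 2, PGroup.pow_mem_frattini (h.hW.to_subgroup C) _, rfl⟩⟩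
  · rw [← hcen, hcardF.2, hF, htop, top_inf_eq]

end Cfsg.Agent.TwoFixOne
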