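import Cfsg.Agent.Lib.TwoFixOne.Basic
import Mathlib.GroupTheory.GroupAction.Quotient

/-!
The group of automorphisms has order nine and the extraspecial group order `2^5`, `2^7` or `2^9`.
-/

set_option autoImplicit false
set_option linter.unusedSectionVars false
set_option linter.unusedVariables false

namespace Cfsg.Agent.TwoFixOne

open Subgroup

variable {W : Type*} [Group W] [Finite W] {p : ℕ} [Fact p.Prime] {E : Subgroup (MulAut W)}

/-- The elements of `E` fixing `U` pointwise. -/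
def fixer (E : Subgroup (MulAut W)) (U : Subgroup W) : Subgroup (MulAut W) where
  carrier := {f | f ∈ E ∧ ∀ x ∈ U, f x = x}
  one_mem' := ⟨one_mem E, fun x _ => rfl⟩
  mul_mem' := fun {f g} hf hg => ⟨mul_mem hf.1 hg.1, fun x hx => by
    rw [MulAut.mul_apply, hg.2 x hx, hf.2 x hx]⟩
  inv_mem' := fun {f} hf => ⟨inv_mem hf.1, fun x hx => by
    conv_lhs => rw [← hf.2 x hx]
    exact MulEquiv.symm_apply_apply f x⟩

/-- The maximal fixed-point groups. -/
def bigs (E : Subgroup (MulAut W)) : Set (Subgroup W) :=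
  {U | ∃ e ∈ E, e ≠ 1 ∧ fx e = U ∧ ¬ U ≤ Subgroup.center W}

theorem Hyp.center_le_fx (h : Hyp p E) {e : MulAut W} (he : e ∈ E) : Subgroup.center W ≤ fx e :=
  fun x hx => (h.extraspecial.2.ge hx) ⟨e, he⟩

theorem Hyp.big_spec (h : Hyp p E) {U : Subgroup W} (hU : U ∈ bigs E) :
    Nat.card ↥U = 8 ∧ (∀ f ∈ E, ∀ x ∈ U, f x ∈ U) ∧ (∀ f ∈ E, ∀ x ∈ U, f (f (f x)) = x) ∧
      Subgroup.center W ≤ U := by
  obtain ⟨e, he, he1, rfl, hUc⟩ := hU
  obtain ⟨h8, h3⟩ := (h.dich he he1 (h.fx_invariant he) le_rfl).resolve_left fun hf =>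
    hUc fun x hx => h.extraspecial.2.le fun a => hf a a.2 x hx
  exact ⟨h8, h.fx_invariant he, h3, h.center_le_fx he⟩

theorem Hyp.not_all_fixed (h : Hyp p E) {f : MulAut W} (hf : f ∈ E)
    (hfix : ∀ U ∈ bigs E, ∀ x ∈ U, f x = x) : f = 1 := by
  have := h.gen (U := ⊤) (S := fx f) (fun _ _ _ _ => mem_top _) fun e he he1 x _ hex => by
    by_cases hc : fx e ≤ Subgroup.center W
    · exact h.center_le_fx hf (hc hex)
    · exact hfix _ ⟨e, he, he1, rfl, hc⟩ x hex
  exact MulEquiv.ext fun x => this (mem_top x)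

theorem Hyp.cube_eq_one (h : Hyp p E) {f : MulAut W} (hf : f ∈ E) : f ^ 3 = 1 := by
  refine h.not_all_fixed (pow_mem hf 3) fun U hU x hx => ?_
  rw [pow_succ, pow_two]
  exact (h.big_spec hU).2.2.1 f hf x hx

theorem Hyp.p_eq (h : Hyp p E) : p = 3 := by
  obtain ⟨e, he, he1⟩ := h.exists_ne
  obtain ⟨k, hk⟩ := IsPGroup.iff_orderOf.1 h.hE ⟨e, he⟩
  rw [Subgroup.orderOf_mk] at hk
  rcases k with _ | k
  · rw [pow_zero, orderOf_eq_one_iff] at hk; exact absurd hk he1
  · exact (Nat.prime_dvd_prime_iff_eq Fact.out Nat.prime_three).1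
      ((dvd_pow_self p k.succ_ne_zero).trans (hk ▸ orderOf_dvd_of_pow_eq_one (h.cube_eq_one he)))

/-- A nontrivial fixed point of `f ≠ 1` in a big `U` outside the centre forces `fx f = U`. -/
theorem Hyp.big_eq (h : Hyp p E) {U : Subgroup W} (hU : U ∈ bigs E) {f : MulAut W} (hf : f ∈ E)
    (hf1 : f ≠ 1) {w : W} (hw : w ∈ U) (hwc : w ∉ Subgroup.center W) (hfw : f w = w) : fx f = U := by
  have : Fact (Nat.Prime 2) := ⟨Nat.prime_two⟩
  have hV : fx f ∈ bigs E := ⟨f, hf, hf1, rfl, fun hc => hwc (hc hfw)⟩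
  obtain ⟨hU8, hUi, hU3, hUz⟩ := h.big_spec hU
  obtain ⟨hV8, hVi, -, hVz⟩ := h.big_spec hV
  set I := U ⊓ fx f with hI
  have hd : Nat.card ↥I ∣ 8 := hU8 ▸ card_dvd_of_le inf_le_left
  have hc2 : Nat.card ↥(Subgroup.center W) = 2 := h.extraspecial.1.2
  have hlt : Subgroup.center W < I :=
    lt_of_le_of_ne (le_inf hUz hVz) fun e => hwc (e.ge (mem_inf.2 ⟨hw, hfw⟩))
  obtain ⟨i, hi⟩ := (h.hW.to_subgroup I).exists_card_eq
  have hi2 : 2 ≤ i := by
    have := PGroup.mul_card_le_card h.hW hlt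
    rw [hc2, hi] at this
    rcases i with _ | _ | i <;> simp at this <;> omega
  have hi3 : i ≤ 3 := by
    rw [hi] at hd
    exact (Nat.pow_dvd_pow_iff_le_right (x := 2) (by norm_num)).1 (hd.trans (by norm_num))
  rcases eq_or_lt_of_le hi3 with e3 | hi3'
  · subst e3
    have h1 := Subgroup.eq_of_le_of_card_ge (inf_le_left : I ≤ U) (by rw [hU8, hi]; norm_num)
    have h2 := Subgroup.eq_of_le_of_card_ge (inf_le_right : I ≤ fx f) (by rw [hV8, hi]; norm_num)
    exact h2.symm.trans h1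
  · exfalso
    have hi4 : i = 2 := by omega
    subst hi4
    have hcomm : IsMulCommutative ↥I := IsPGroup.isMulCommutative_of_card_eq_prime_sq (p := 2) hi
    have hfix := h.abelian_fixed (fun g hg x hx => mem_inf.2 ⟨hUi g hg x hx.1, hVi g hg x hx.2⟩) hcomm
    exact hwc (h.extraspecial.2.le fun a => hfix a a.2 w ⟨hw, hfw⟩)

theorem Hyp.fixer_spec (h : Hyp p E) {U : Subgroup W} (hU : U ∈ bigs E) :
    fixer E U ≠ ⊥ ∧ Nat.card ↥E ≤ 3 * Nat.card ↥(fixer E U) ∧
      ∀ V ∈ bigs E, ∀ c ∈ fixer E U, c ∈ fixer E V → c ≠ 1 → V = U := by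
  classical
  obtain ⟨hU8, hUi, -, hUz⟩ := h.big_spec hU
  obtain ⟨e, he, he1, heU, hUc⟩ := hU
  have hU' : U ∈ bigs E := ⟨e, he, he1, heU, hUc⟩
  refine ⟨fun hb => he1 (by
    have : e ∈ fixer E U := ⟨he, fun x hx => (heU.ge hx : e x = x)⟩
    rwa [hb, mem_bot] at this), ?_, ?_⟩
  · obtain ⟨w, hw, hwc⟩ := Set.not_subset.1 hUc
    -- the stabiliser of `w` is the fixer, and its orbit lies in `U` minus the centre
    have hstab : (MulAction.stabilizer ↥E w).map E.subtype ≤ fixer E U := by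
      rintro _ ⟨f, hf, rfl⟩
      refine ⟨f.2, fun x hx => ?_⟩
      rcases eq_or_ne (f : MulAut W) 1 with h1 | h1
      · show (f : MulAut W) x = x
        rw [h1]; rfl
      · exact (h.big_eq hU' f.2 h1 hw hwc hf).ge hx
    have horb : MulAction.orbit ↥E w ⊆ (U : Set W) \ (Subgroup.center W : Set W) := by
      rintro _ ⟨f, rfl⟩
      refine ⟨hUi f f.2 w hw, fun hc => hwc ?_⟩
      have hfix := h.extraspecial.2.ge hc
      have h2 := hfix f⁻¹
      change ((f : MulAut W)⁻¹) ((f : MulAut W) w) = (f : MulAut W) w at h2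
      rw [MulAut.inv_apply, MulEquiv.symm_apply_apply] at h2
      rw [h2]; exact hc
    have hn : (MulAction.orbit ↥E w).ncard ≤ 6 := by
      refine (Set.ncard_le_ncard horb (Set.toFinite _)).trans ?_
      rw [Set.ncard_sdiff (fun x hx => hUz hx) (Set.toFinite _), ← Nat.card_coe_set_eq,
        ← Nat.card_coe_set_eq, SetLike.coe_sort_coe, SetLike.coe_sort_coe, hU8, h.extraspecial.1.2]
    have hidx : (MulAction.stabilizer ↥E w).index = (MulAction.orbit ↥E w).ncard :=
      MulAction.index_stabilizer ↥E w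
    have hle : (MulAction.stabilizer ↥E w).index ≤ 3 := by
      obtain ⟨k, hk⟩ := h.hE.index (MulAction.stabilizer ↥E w)
      have hp := h.p_eq
      subst hp
      rw [hk] at hidx ⊢
      rcases k with _ | _ | k
      · norm_num
      · norm_num
      · exfalso
        have : 3 ^ 2 ≤ 3 ^ (k + 1 + 1) := Nat.pow_le_pow_right (by norm_num) (by omega)
        omega
    rw [← Subgroup.card_mul_index (MulAction.stabilizer ↥E w), mul_comm 3]
    refine Nat.mul_le_mul ?_ hle
    rw [← card_map_of_injective E.subtype_injective]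
    exact Subgroup.card_le_of_le hstab
  · intro V hV c hcU hcV hc1
    obtain ⟨w, hw, hwc⟩ := Set.not_subset.1 hUc
    obtain ⟨e', he', he1', heV, hVc⟩ := hV
    obtain ⟨v, hv, hvc⟩ := Set.not_subset.1 hVc
    rw [← h.big_eq hU' hcU.1 hc1 hw hwc (hcU.2 w hw)]
    exact (h.big_eq ⟨e', he', he1', heV, hVc⟩ hcU.1 hc1 hv hvc (hcV.2 v hv)).symm

theorem Hyp.exists_two (h : Hyp p E) : ∃ U ∈ bigs E, ∃ V ∈ bigs E, U ≠ V := by
  obtain ⟨e, he, he1⟩ := h.exists_ne
  obtain ⟨U, hU⟩ : (bigs E).Nonempty := by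
    by_contra hne
    rw [Set.not_nonempty_iff_eq_empty] at hne
    exact he1 (h.not_all_fixed he (by simp [hne]))
  by_contra hne
  push Not at hne
  obtain ⟨hf0, -, -⟩ := h.fixer_spec hU
  refine hf0 (le_bot_iff.1 fun f hf => mem_bot.2 (h.not_all_fixed hf.1 fun V hV x hx => ?_))
  exact hf.2 x ((hne U hU V hV).ge hx)

/-- `|E| = 9`. -/
theorem Hyp.card_eq (h : Hyp p E) : Nat.card ↥E = 9 := by
  classical
  obtain ⟨U, hU, V, hV, hne⟩ := h.exists_two
  obtain ⟨-, hKU, hsep⟩ := h.fixer_spec hU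
  obtain ⟨-, hKV, -⟩ := h.fixer_spec hV
  have hdisj : fixer E U ⊓ fixer E V = ⊥ := le_bot_iff.1 fun c hc => by
    by_contra hc1
    exact hne (hsep V hV c hc.1 hc.2 (fun e => hc1 (mem_bot.2 e))).symm
  have hle : Nat.card ↥(fixer E U) * Nat.card ↥(fixer E V) ≤ Nat.card ↥E := by
    rw [← Nat.card_prod]
    refine Nat.card_le_card_of_injective
      (fun x : ↥(fixer E U) × ↥(fixer E V) => (⟨(x.1 : MulAut W) * x.2, mul_mem x.1.2.1 x.2.2.1⟩ : ↥E)) ?_
    rintro ⟨a, b⟩ ⟨a', b'⟩ hab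
    have hab' : (a : MulAut W) * b = a' * b' := congrArg Subtype.val hab
    have hc : (a' : MulAut W)⁻¹ * a ∈ fixer E U ⊓ fixer E V := by
      refine mem_inf.2 ⟨mul_mem (inv_mem a'.2) a.2, ?_⟩
      rw [show (a' : MulAut W)⁻¹ * a = (b' : MulAut W) * (b : MulAut W)⁻¹ by
        rw [inv_mul_eq_iff_eq_mul, ← mul_assoc, ← hab', mul_inv_cancel_right]]
      exact mul_mem b'.2 (inv_mem b.2)
    rw [hdisj, mem_bot, inv_mul_eq_one] at hc
    have ha : a = a' := Subtype.ext hc.symm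
    subst ha
    exact Prod.ext rfl (Subtype.ext (mul_left_cancel hab'))
  have h9 : Nat.card ↥E ≤ 9 := by
    refine Nat.le_of_mul_le_mul_right ?_ (Nat.card_pos (α := ↥E))
    calc Nat.card ↥E * Nat.card ↥E ≤ (3 * Nat.card ↥(fixer E U)) * (3 * Nat.card ↥(fixer E V)) :=
          Nat.mul_le_mul hKU hKV
      _ = 9 * (Nat.card ↥(fixer E U) * Nat.card ↥(fixer E V)) := by ring
      _ ≤ 9 * Nat.card ↥E := Nat.mul_le_mul_left _ hle
  obtain ⟨k, hk⟩ := h.hE.exists_card_eq
  have hp := h.p_eq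
  subst hp
  have : Fact (Nat.Prime 3) := ⟨Nat.prime_three⟩
  rcases k with _ | _ | _ | k
  · refine absurd ?_ h.hnc
    have : Subsingleton ↥E := (Nat.card_eq_one_iff_unique.1 (by rw [hk, pow_zero])).1
    infer_instance
  · exact absurd (isCyclic_of_prime_card (p := 3) (by rw [hk]; norm_num)) h.hnc
  · rw [hk]; norm_num
  · exfalso
    rw [hk] at h9
    have : 3 ^ 3 ≤ 3 ^ (k + 1 + 1 + 1) := Nat.pow_le_pow_right (by norm_num) (by omega)
    omega

theorem Hyp.card_W (h : Hyp p E) :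
    Nat.card W = 2 ^ 5 ∨ Nat.card W = 2 ^ 7 ∨ Nat.card W = 2 ^ 9 := by
  classical
  have : Fact (Nat.Prime 2) := ⟨Nat.prime_two⟩
  obtain ⟨hex, -⟩ := h.extraspecial
  set Z := Subgroup.center W with hZdef
  have hnormal : ∀ H : Subgroup W, Z ≤ H → H.Normal := fun H hH => ⟨fun x hx g => by
    have h1 := H.mul_mem (hH (PGroup.special_commutator_mem_center hex.1 g x)) hx
    rwa [commutatorElement_def, inv_mul_cancel_right] at h1⟩
  have hsup : ∀ A U : Subgroup W, Z ≤ U →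
      Nat.card ↥(A ⊔ U) * Nat.card ↥(A ⊓ U) = Nat.card ↥A * Nat.card ↥U := fun A U hZU => by
    have := hnormal U hZU
    have h1 : U.relIndex (A ⊔ U) = U.relIndex A := Subgroup.relIndex_sup_right A U
    have h2 : Nat.card ↥U * U.relIndex (A ⊔ U) = Nat.card ↥(A ⊔ U) := by
      rw [← relIndex_bot_left U, relIndex_mul_relIndex _ _ _ bot_le le_sup_right, relIndex_bot_left]
    have h3 : Nat.card ↥(A ⊓ U) * U.relIndex A = Nat.card ↥A := by
      rw [← inf_relIndex_left, ← relIndex_bot_left (A ⊓ U),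
        relIndex_mul_relIndex _ _ _ bot_le inf_le_left, relIndex_bot_left]
    rw [← h2, ← h3, h1]; ring
  let B := (Set.toFinite (bigs E)).toFinset
  have hgrow : ∀ T : Finset (Subgroup W), T ⊆ B →
      Nat.card ↥(Z ⊔ T.sup id) ≤ 2 * 4 ^ T.card := by
    intro T
    induction T using Finset.induction_on with
    | empty => intro _; rw [Finset.sup_empty, sup_bot_eq, hex.2]; simp
    | @insert U T hUT ih =>
      intro hTB
      rw [Finset.insert_subset_iff] at hTB
      obtain ⟨hU8, -, -, hUz⟩ := h.big_spec ((Set.toFinite (bigs E)).mem_toFinset.1 hTB.1)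
      rw [Finset.sup_insert, id_eq, ← sup_assoc, sup_comm Z U, sup_assoc, sup_comm]
      have h1 := hsup (Z ⊔ T.sup id) U hUz
      rw [hU8] at h1
      have h2 : 2 ≤ Nat.card ↥((Z ⊔ T.sup id) ⊓ U) :=
        hex.2 ▸ Subgroup.card_le_of_le (le_inf le_sup_left hUz)
      rw [Finset.card_insert_of_notMem hUT, pow_succ]
      have h3 := ih hTB.2
      nlinarith [Nat.mul_le_mul_left (Nat.card ↥(Z ⊔ T.sup id ⊔ U)) h2]
  have hB : B.card ≤ 4 := by
    have hdis : ∀ U ∈ B, ∀ V ∈ B, U ≠ V →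
        Disjoint ((fixer E U : Set (MulAut W)) \ {1}) ((fixer E V : Set (MulAut W)) \ {1}) := by
      intro U hU V hV hne
      rw [Set.disjoint_left]
      rintro c ⟨hcU, hc1⟩ ⟨hcV, -⟩
      exact hne ((h.fixer_spec ((Set.toFinite (bigs E)).mem_toFinset.1 hU)).2.2 V
        ((Set.toFinite (bigs E)).mem_toFinset.1 hV) c hcU hcV hc1).symm
    have hsub : (⋃ U ∈ B, ((fixer E U : Set (MulAut W)) \ {1})) ⊆ (E : Set (MulAut W)) \ {1} := by
      intro c hc
      simp only [Set.mem_iUnion] at hc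
      obtain ⟨U, -, hcU, hc1⟩ := hc
      exact ⟨hcU.1, hc1⟩
    have h2 : ∀ U ∈ B, 2 ≤ ((fixer E U : Set (MulAut W)) \ {1}).ncard := by
      intro U hU
      obtain ⟨-, hc, -⟩ := h.fixer_spec ((Set.toFinite (bigs E)).mem_toFinset.1 hU)
      rw [h.card_eq] at hc
      rw [Set.ncard_sdiff (Set.singleton_subset_iff.2 (one_mem _)), Set.ncard_singleton,
        ← Nat.card_coe_set_eq, SetLike.coe_sort_coe]
      omega
    have h8 : ((E : Set (MulAut W)) \ {1}).ncard = 8 := by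
      rw [Set.ncard_sdiff (Set.singleton_subset_iff.2 (one_mem _)), Set.ncard_singleton,
        ← Nat.card_coe_set_eq, SetLike.coe_sort_coe, h.card_eq]
    have h3 := Set.ncard_le_ncard hsub (Set.toFinite _)
    have e := B.finite_toSet.ncard_biUnion (s := fun U => ((fixer E U : Set (MulAut W)) \ {1}))
      (fun U _ => Set.toFinite _) (fun U hU V hV hne => hdis U hU V hV hne)
    rw [finsum_mem_coe_finset] at e
    simp only [Finset.mem_coe] at e
    rw [e, h8] at h3
    have h4 := Finset.card_nsmul_le_sum B _ 2 h2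
    rw [smul_eq_mul] at h4
    omega
  have htop : Z ⊔ B.sup id = ⊤ := top_le_iff.1 (h.gen (U := ⊤) (fun _ _ _ _ => mem_top _)
    fun e he he1 x _ hex' => by
      by_cases hc : fx e ≤ Z
      · exact mem_sup_left (hc hex')
      · exact mem_sup_right (Finset.le_sup (f := id)
          ((Set.toFinite (bigs E)).mem_toFinset.2 ⟨e, he, he1, rfl, hc⟩) hex'))
  have hup : Nat.card W ≤ 512 := by
    have := hgrow B le_rfl
    rw [htop, Subgroup.card_top] at this
    exact this.trans ((Nat.mul_le_mul_left 2 (Nat.pow_le_pow_right (by norm_num) hB)).trans (by norm_num))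
  have hlow : 32 ≤ Nat.card W := by
    obtain ⟨U, hU, V, hV, hne⟩ := h.exists_two
    obtain ⟨hU8, -, -, -⟩ := h.big_spec hU
    obtain ⟨hV8, -, -, hVz⟩ := h.big_spec hV
    have h1 := hsup U V hVz
    rw [hU8, hV8] at h1
    have hsmall : Nat.card ↥(U ⊓ V) ≤ 2 := by
      rw [← hex.2]
      refine Subgroup.card_le_of_le fun w hw => ?_
      by_contra hwc
      obtain ⟨e, he, he1, rfl, -⟩ := hU
      exact hne (h.big_eq hV he he1 hw.2 hwc hw.1)
    have h2 := Nat.le_of_dvd Nat.card_pos (Subgroup.card_subgroup_dvd_card (U ⊔ V))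
    nlinarith [Nat.mul_le_mul_left (Nat.card ↥(U ⊔ V)) hsmall]
  obtain ⟨n, -, hn, -⟩ := PGroup.extraspecial_card hex
  rw [hn] at hup hlow ⊢
  have h1 : n ≤ 4 := by
    by_contra hc
    have : 2 ^ 11 ≤ 2 ^ (2 * n + 1) := Nat.pow_le_pow_right (by norm_num) (by omega)
    omega
  interval_cases n <;> simp_all

end Cfsg.Agent.TwoFixOne
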